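import Groth.Agent.S2090
import Groth.Agent.Hensel.UnramifiedFlat
import Groth.Agent.Depth.Basic
import Mathlib.AlgebraicGeometry.Noetherian
import Mathlib.AlgebraicGeometry.Morphisms.QuasiCompact

/-!
# Sections over the complement of a closed subset of depth `≥ 2` of an affine scheme
-/

set_option backward.isDefEq.respectTransparency.types false

noncomputable section

universe u

open CategoryTheory AlgebraicGeometry TopologicalSpace Opposite

namespace Groth.Agent.HartogsAffine

theorem depth_congr_ringEquiv {R S : Type u} [CommRing R] [IsLocalRing R] [IsNoetherianRing R]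
    [CommRing S] [IsLocalRing S] [IsNoetherianRing S] (e : R ≃+* S) :
    LocCoh.depth S S = LocCoh.depth R R := by
  let _ : Algebra R S := e.toRingHom.toAlgebra
  have : Module.Flat R S :=
    Module.Flat.of_linearEquiv (LinearEquiv.ofBijective (Algebra.linearMap R S) e.bijective).symm
  have : IsLocalHom (algebraMap R S) := ⟨fun a ha => (isUnit_map_iff e a).mp ha⟩
  refine Hensel.UnramifiedFlat.depth_eq R S (le_antisymm
    (((IsLocalRing.local_hom_TFAE (algebraMap R S)).out 0 2).mp ‹IsLocalHom (algebraMap R S)›) fun s hs => ?_)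
  obtain ⟨r, rfl⟩ := e.surjective s
  refine Ideal.mem_map_of_mem _ ((IsLocalRing.mem_maximalIdeal r).mpr fun hu => ?_)
  exact (IsLocalRing.mem_maximalIdeal _).mp hs (hu.map e.toRingHom)

variable {X : Scheme.{u}} [IsAffine X] (W : X.Opens)

/-- Restriction of global functions to an open is bijective if the complement has depth at least two. -/
theorem bijective_res [IsLocallyNoetherian X]
    (h : ∀ x : X, x ∉ W → (2 : ℕ∞) ≤ LocCoh.depth (X.presheaf.stalk x) (X.presheaf.stalk x)) :
    Function.Bijective (X.presheaf.map (homOfLE (le_top : W ≤ ⊤)).op) := by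
  classical
  letI : Algebra Γ(X, ⊤) Γ(X, W) := (X.presheaf.map (homOfLE (le_top : W ≤ ⊤)).op).hom.toAlgebra
  have hR : IsNoetherianRing Γ(X, ⊤) := IsLocallyNoetherian.component_noetherian ⟨⊤, isAffineOpen_top X⟩
  have : IsNoetherian X := { }
  have hWc : IsCompact (W : Set X) := NoetherianSpace.isCompact _
  change Function.Bijective (Algebra.linearMap Γ(X, ⊤) Γ(X, W))
  refine Groth.Agent.S2090.result (Algebra.linearMap Γ(X, ⊤) Γ(X, W)) fun p hp => ?_
  obtain ⟨x, hx⟩ : ∃ x : X, (isAffineOpen_top X).primeIdealOf ⟨x, trivial⟩ = ⟨p, hp⟩ :=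
    ⟨(isAffineOpen_top X).fromSpec ⟨p, hp⟩,
      (isAffineOpen_top X).fromSpec.isOpenEmbedding.injective (by rw [IsAffineOpen.fromSpec_primeIdealOf])⟩
  letI : ∀ y : X, Algebra Γ(X, ⊤) (X.presheaf.stalk y) := fun y =>
    TopCat.Presheaf.algebra_section_stalk X.presheaf (⟨y, trivial⟩ : (⊤ : X.Opens))
  have hloc : ∀ y : X, IsLocalization.AtPrime (X.presheaf.stalk y)
      ((isAffineOpen_top X).primeIdealOf ⟨y, trivial⟩).asIdeal := fun y =>
    (isAffineOpen_top X).isLocalization_stalk ⟨y, trivial⟩
  have hunit : ∀ (y : X) (g : Γ(X, ⊤)), g ∉ ((isAffineOpen_top X).primeIdealOf ⟨y, trivial⟩).asIdeal ↔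
      IsUnit (algebraMap Γ(X, ⊤) (X.presheaf.stalk y) g) := fun y g =>
    haveI := hloc y
    (IsLocalization.AtPrime.isUnit_to_map_iff (X.presheaf.stalk y) _ g).symm
  have hgerm : ∀ (y : X) (hy : y ∈ W) (g : Γ(X, ⊤)),
      X.presheaf.germ W y hy (algebraMap Γ(X, ⊤) Γ(X, W) g) = algebraMap Γ(X, ⊤) (X.presheaf.stalk y) g :=
    fun y hy g => X.presheaf.germ_res_apply (homOfLE le_top) y hy g
  by_cases hxW : x ∈ W
  · left
    have := hloc x
    have hp' : ((isAffineOpen_top X).primeIdealOf ⟨x, trivial⟩).asIdeal = p := congrArg PrimeSpectrum.asIdeal hx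
    have hinjW : ∀ σ : Γ(X, W), X.presheaf.germ W x hxW σ = 0 → ∃ g : Γ(X, ⊤), g ∉ p ∧ g • σ = 0 := by
      intro σ hσ
      obtain ⟨O, hxO, i, j, hij⟩ := X.presheaf.germ_eq x hxW hxW σ 0 (by rw [hσ, map_zero])
      obtain ⟨g, hg, hxg⟩ := (isAffineOpen_top X).exists_basicOpen_le (V := O) ⟨x, hxO⟩ trivial
      have hgp : g ∉ p := by
        rw [← hp', hunit]
        exact (X.mem_basicOpen_top g x).mp hxg
      have hle : X.basicOpen (algebraMap Γ(X, ⊤) Γ(X, W) g) ≤ O := by
        refine le_trans ?_ hg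
        change X.basicOpen (X.presheaf.map (homOfLE (le_top : W ≤ ⊤)).op g) ≤ _
        rw [Scheme.basicOpen_res]
        exact inf_le_right
      obtain ⟨n, hn⟩ := exists_pow_mul_eq_zero_of_res_basicOpen_eq_zero_of_isCompact X hWc σ
        (algebraMap Γ(X, ⊤) Γ(X, W) g) (by
          have h2 := congrArg (X.presheaf.map (homOfLE hle).op) hij
          rw [← CommRingCat.comp_apply, ← CommRingCat.comp_apply, ← Functor.map_comp, ← Functor.map_comp,
            map_zero] at h2
          exact h2)
      exact ⟨g ^ n, fun h => hgp ((inferInstance : p.IsPrime).mem_of_pow_mem n h), by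
        rw [Algebra.smul_def, map_pow]; exact hn⟩
    have hfac : ∀ σ : Γ(X, W), ∃ g : Γ(X, ⊤), g ∉ p ∧ ∃ b : Γ(X, ⊤), g • σ = algebraMap Γ(X, ⊤) Γ(X, W) b := by
      intro σ
      obtain ⟨⟨b, t⟩, hbt⟩ := IsLocalization.surj
        ((isAffineOpen_top X).primeIdealOf ⟨x, trivial⟩).asIdeal.primeCompl (X.presheaf.germ W x hxW σ)
      obtain ⟨g, hg, hgσ⟩ := hinjW ((t : Γ(X, ⊤)) • σ - algebraMap Γ(X, ⊤) Γ(X, W) b) (by
        rw [map_sub, Algebra.smul_def, map_mul, hgerm, hgerm, mul_comm, hbt, sub_self])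
      refine ⟨g * t, fun h => ((inferInstance : p.IsPrime).mem_or_mem h).elim hg (hp' ▸ t.2), g * b, ?_⟩
      rw [mul_smul, sub_eq_zero.1 ((smul_sub _ _ _).symm.trans hgσ), map_mul, Algebra.smul_def]
    constructor
    · rw [injective_iff_map_eq_zero]
      intro z hz
      induction z using LocalizedModule.induction_on with
      | h b s =>
        rw [LocalizedModule.map_mk, ← LocalizedModule.zero_mk s, LocalizedModule.mk_eq] at hz
        obtain ⟨c, hc⟩ := hz
        simp only [smul_zero, Algebra.linearMap_apply, Submonoid.smul_def] at hc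
        have h0 : algebraMap Γ(X, ⊤) (X.presheaf.stalk x) ((c : Γ(X, ⊤)) * ((s : Γ(X, ⊤)) * b)) = 0 := by
          rw [← hgerm x hxW, map_mul (algebraMap Γ(X, ⊤) Γ(X, W)), map_mul (algebraMap Γ(X, ⊤) Γ(X, W)),
            ← Algebra.smul_def, ← Algebra.smul_def, hc, map_zero]
        obtain ⟨t, ht⟩ := IsLocalization.exists_of_eq
          (M := ((isAffineOpen_top X).primeIdealOf ⟨x, trivial⟩).asIdeal.primeCompl) (h0.trans (map_zero _).symm)
        rw [← LocalizedModule.zero_mk s, LocalizedModule.mk_eq]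
        refine ⟨⟨(t : Γ(X, ⊤)) * c, fun h => ((inferInstance : p.IsPrime).mem_or_mem h).elim (hp' ▸ t.2) c.2⟩, ?_⟩
        simp only [smul_zero, Submonoid.smul_def, smul_eq_mul]
        rw [mul_assoc, ht, mul_zero]
    · intro z
      induction z using LocalizedModule.induction_on with
      | h σ s =>
        obtain ⟨g, hg, b, hb⟩ := hfac σ
        refine ⟨LocalizedModule.mk b (⟨g, hg⟩ * s), ?_⟩
        rw [LocalizedModule.map_mk, LocalizedModule.mk_eq]
        refine ⟨1, ?_⟩
        simp only [Submonoid.smul_def, Submonoid.coe_mul, Submonoid.coe_one, one_smul, Algebra.linearMap_apply]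
        rw [← hb, smul_smul, mul_comm (g : Γ(X, ⊤))]
  · right
    have := hloc x
    have hp' : ((isAffineOpen_top X).primeIdealOf ⟨x, trivial⟩).asIdeal = p := congrArg PrimeSpectrum.asIdeal hx
    have : IsLocalization.AtPrime (X.presheaf.stalk x) p := by
      subst hp'; exact hloc x
    refine ⟨?_, ?_⟩
    · let e : Localization.AtPrime p ≃ₐ[Γ(X, ⊤)] X.presheaf.stalk x :=
        IsLocalization.algEquiv p.primeCompl _ _
      have : IsNoetherianRing (X.presheaf.stalk x) := isNoetherianRing_of_ringEquiv _ e.toRingEquiv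
      let i := (IsLocalizedModule.linearEquiv p.primeCompl (LocalizedModule.mkLinearMap p.primeCompl Γ(X, ⊤))
        (Algebra.linearMap Γ(X, ⊤) (Localization.AtPrime p))).extendScalarsOfIsLocalization p.primeCompl
          (Localization.AtPrime p)
      rw [Depth.depth_eq_idealDepth, Depth.idealDepth_congr i, ← Depth.depth_eq_idealDepth,
        ← depth_congr_ringEquiv e.toRingEquiv]
      exact h x hxW
    · rintro ⟨hprime, σ, hσ⟩
      have hzero : σ = 0 := by
        refine TopCat.Presheaf.section_ext X.sheaf W σ 0 fun y hy => ?_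
        obtain ⟨g, hgp, hgy⟩ : ∃ g ∈ p, g ∉ ((isAffineOpen_top X).primeIdealOf ⟨y, trivial⟩).asIdeal := by
          refine SetLike.not_le_iff_exists.mp fun hle => hxW ?_
          have hs : (isAffineOpen_top X).primeIdealOf ⟨x, trivial⟩ ⤳ (isAffineOpen_top X).primeIdealOf ⟨y, trivial⟩ := by
            rw [← PrimeSpectrum.le_iff_specializes]
            exact hp'.le.trans hle
          have := hs.map (isAffineOpen_top X).fromSpec.continuous
          rw [IsAffineOpen.fromSpec_primeIdealOf, IsAffineOpen.fromSpec_primeIdealOf] at this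
          exact this.mem_open W.2 hy
        change X.presheaf.germ W y hy σ = X.presheaf.germ W y hy 0
        rw [map_zero]
        obtain ⟨n, hn⟩ : ∃ n : ℕ, g ^ n • σ = 0 := by
          obtain ⟨n, hn⟩ := (hσ ▸ hgp : g ∈ (Submodule.colon ⊥ {σ}).radical)
          exact ⟨n, by simpa [Submodule.mem_colon_singleton] using hn⟩
        have h0 := congrArg (X.presheaf.germ W y hy) hn
        rw [Algebra.smul_def, map_mul, hgerm, map_zero, map_pow] at h0
        exact (((hunit y g).mp hgy).pow n).mul_right_eq_zero.mp h0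
      rw [hzero] at hσ
      refine hprime.ne_top ?_
      rw [hσ, Ideal.eq_top_iff_one]
      exact Ideal.le_radical (by simp [Submodule.mem_colon_singleton])

end Groth.Agent.HartogsAffine
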